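import Cfsg.Agent.GagolaChar.SolvableQuotient57
import Cfsg.Agent.GagolaChar.Sylow
import Cfsg.Agent.BaerSuzuki.Basic

/-!
# The quotient of a solvable Gagola group by its `p`-core
-/

set_option autoImplicit false

noncomputable section

namespace CfsgLib.GagolaChar

open Cfsg CfsgLib.Chars

universe u

variable {G : Type u} [Group G] [Finite G] {χ : IrrCharacter G} {x : G}

theorem pCore_unique (hG : 2 < Nat.card G) (hx : IsTwoSupport χ x) {p : ℕ} [Fact p.Prime]
    (hp : IsPGroup p (supp χ)) (q : ℕ) (hq : q.Prime) : pCore q G ≠ ⊥ ↔ q = p := by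
  haveI := supp_normal χ
  haveI : Fact q.Prime := ⟨hq⟩
  constructor
  · intro h
    have hle := supp_le_of_normal hG hx (pCore q G) h
    obtain ⟨k, hk⟩ := hp ⟨x, self_mem_supp hG hx⟩
    obtain ⟨l, hl⟩ := Constrained.isPGroup_pCore (p := q) ⟨x, hle (self_mem_supp hG hx)⟩
    by_contra hne
    exact hx.1 (orderOf_eq_one_iff.1 (Nat.eq_one_of_dvd_coprimes
      (Nat.Coprime.pow k l ((Nat.coprime_primes (Fact.out : p.Prime) hq).2 (Ne.symm hne)))
      (orderOf_dvd_of_pow_eq_one (show x ^ p ^ k = 1 from congrArg Subtype.val hk))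
      (orderOf_dvd_of_pow_eq_one (show x ^ q ^ l = 1 from congrArg Subtype.val hl))))
  · rintro rfl h
    exact supp_ne_bot hG hx (le_bot_iff.1 (h ▸ CfsgLib.BaerSuzuki.normal_pgroup_le_pCore inferInstance hp))

theorem centralizer_supp_eq_pCore (hG : 2 < Nat.card G) (hx : IsTwoSupport χ x) {p : ℕ}
    [Fact p.Prime] (hp : IsPGroup p (supp χ)) :
    Subgroup.centralizer (supp χ : Set G) = pCore p G := by
  haveI := supp_normal χ
  refine le_antisymm ?_ ?_
  · obtain ⟨P, hP⟩ := exists_sylow_centralizer hG hx p (supp χ) rfl hp (self_mem_supp hG hx) hx.1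
    have hle : Subgroup.centralizer (supp χ : Set G) ≤ (P : Subgroup G) := by
      rw [← hP]
      exact Subgroup.centralizer_le (Set.singleton_subset_iff.2 (self_mem_supp hG hx))
    exact CfsgLib.BaerSuzuki.normal_pgroup_le_pCore inferInstance (P.isPGroup'.to_le hle)
  · intro g hg
    rw [Subgroup.mem_centralizer_iff]
    intro n hn
    by_cases hn1 : n = 1
    · rw [hn1, one_mul, mul_one]
    obtain ⟨P, hP⟩ := exists_sylow_centralizer hG hx p (supp χ) rfl hp hn hn1
    have : g ∈ Subgroup.centralizer ({n} : Set G) := by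
      rw [hP]
      exact normal_le_sylow p (pCore p G) Constrained.isPGroup_pCore P hg
    exact (Subgroup.mem_centralizer_singleton_iff.1 this).symm

/-- The additive form with an action by additive maps. -/
theorem not_dvd_of_addAction {X : Type u} [Group X] [Finite X] [Group.IsSolvable X] {p : ℕ}
    [Fact p.Prime] {V : Type*} [AddCommGroup V] [Module (ZMod p) V] [Finite V] [Nontrivial V]
    (f : X → V →+ V) (h1 : ∀ v, f 1 v = v)
    (h2 : ∀ a b v, f (a * b) v = f a (f b v)) (hinj : ∀ y : X, (∀ v, f y v = v) → y = 1)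
    (ht : ∀ v w : V, v ≠ 0 → w ≠ 0 → ∃ y : X, f y v = w)
    (hs : ∀ v : V, v ≠ 0 → ∀ y : X, f y v = v → ∃ k : ℕ, y ^ p ^ k = 1) :
    ¬ p ∣ Nat.card (commutator X) := by
  let ρ : Representation (ZMod p) X V :=
    { toFun := fun y => (f y).toZModLinearMap p
      map_one' := LinearMap.ext h1
      map_mul' := fun a b => LinearMap.ext (h2 a b) }
  exact Trans57.not_dvd_card_commutator ρ hinj ht hs

/-- The multiplicative form of the result on transitive linear groups. -/
theorem not_dvd_of_mulAction {X : Type u} [Group X] [Finite X] [Group.IsSolvable X] {p : ℕ}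
    [Fact p.Prime] {N : Type*} [CommGroup N] [Finite N] [Nontrivial N]
    (hexp : ∀ n : N, n ^ p = 1) (c : X →* MulAut N) (hinj : Function.Injective c)
    (ht : ∀ v w : N, v ≠ 1 → w ≠ 1 → ∃ y : X, c y v = w)
    (hs : ∀ v : N, v ≠ 1 → ∀ y : X, c y v = v → ∃ k : ℕ, y ^ p ^ k = 1) :
    ¬ p ∣ Nat.card (commutator X) := by
  letI : Module (ZMod p) (Additive N) :=
    AddCommGroup.zmodModule fun n => hexp (Additive.toMul n)
  refine not_dvd_of_addAction (V := Additive N)
    (fun y => MonoidHom.toAdditive (c y).toMonoidHom) ?_ ?_ ?_ ?_ ?_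
  · intro v
    show Additive.ofMul (c 1 (Additive.toMul v)) = v
    rw [map_one]; rfl
  · intro a b v
    show Additive.ofMul (c (a * b) (Additive.toMul v)) = _
    rw [map_mul]; rfl
  · exact fun y hy => hinj (by
      rw [map_one]
      exact MulEquiv.ext fun n => congrArg Additive.toMul (hy (Additive.ofMul n)))
  · intro v w hv hw
    obtain ⟨y, hy⟩ := ht (Additive.toMul v) (Additive.toMul w) hv hw
    exact ⟨y, congrArg Additive.ofMul hy⟩
  · exact fun v hv y hy => hs (Additive.toMul v) hv y (congrArg Additive.toMul hy)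

theorem quotient_pCore_commutator [Group.IsSolvable G] (hG : 2 < Nat.card G)
    (hx : IsTwoSupport χ x) {p : ℕ} [Fact p.Prime] (hel : IsElementaryAbelian p (supp χ)) :
    ¬ p ∣ Nat.card (commutator (G ⧸ pCore p G)) := by
  haveI hN := supp_normal χ
  letI : CommGroup (supp χ) :=
    { (inferInstance : Group (supp χ)) with mul_comm := fun a b => hel.1.is_comm.comm a b }
  have hexp : ∀ n : supp χ, n ^ p = 1 := fun n => Subtype.ext (hel.2 n n.2)
  have hNp : IsPGroup p (supp χ) := fun n => ⟨1, by rw [pow_one]; exact hexp n⟩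
  haveI : Nontrivial (supp χ) :=
    ⟨⟨⟨x, self_mem_supp hG hx⟩, 1, fun h => hx.1 (congrArg Subtype.val h)⟩⟩
  have hne : ∀ v : supp χ, v ≠ 1 → (v : G) ≠ 1 := fun v hv h => hv (Subtype.ext h)
  have hker : (MulAut.conjNormal : G →* MulAut (supp χ)).ker = pCore p G := by
    rw [← centralizer_supp_eq_pCore hG hx hNp]
    ext g
    rw [MonoidHom.mem_ker, Subgroup.mem_centralizer_iff]
    constructor
    · intro h n hn
      have h' := congrArg (fun σ : MulAut (supp χ) => ((σ ⟨n, hn⟩ : supp χ) : G)) h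
      simp only [MulAut.conjNormal_apply, MulAut.one_apply] at h'
      exact (mul_inv_eq_iff_eq_mul.1 h').symm
    · intro h
      refine MulEquiv.ext fun n => Subtype.ext ?_
      rw [MulAut.conjNormal_apply, MulAut.one_apply, ← h _ n.2, mul_inv_cancel_right]
  refine not_dvd_of_mulAction hexp
    (QuotientGroup.lift (pCore p G) (MulAut.conjNormal : G →* MulAut (supp χ)) hker.ge) ?_ ?_ ?_
  · rw [injective_iff_map_eq_one]
    intro y hy
    obtain ⟨g, rfl⟩ := QuotientGroup.mk_surjective y
    exact (QuotientGroup.eq_one_iff g).2 (hker.le hy)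
  · intro v w hv hw
    obtain ⟨g, hg⟩ := isConj_iff.1 ((isConj_of_mem_supp hG hx v.2 (hne v hv)).symm.trans
      (isConj_of_mem_supp hG hx w.2 (hne w hw)))
    exact ⟨(g : G ⧸ pCore p G), Subtype.ext ((MulAut.conjNormal_apply g v).trans hg)⟩
  · intro v hv y hy
    obtain ⟨g, rfl⟩ := QuotientGroup.mk_surjective y
    obtain ⟨P, hP⟩ := exists_sylow_centralizer hG hx p (supp χ) rfl hNp v.2 (hne v hv)
    have hg : g ∈ (P : Subgroup G) := by
      rw [← hP, Subgroup.mem_centralizer_singleton_iff]
      have h := (MulAut.conjNormal_apply g v).symm.trans (congrArg Subtype.val hy)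
      exact mul_inv_eq_iff_eq_mul.1 h
    obtain ⟨k, hk⟩ := P.isPGroup' ⟨g, hg⟩
    exact ⟨k, by rw [← QuotientGroup.mk_pow, show g ^ p ^ k = 1 from congrArg Subtype.val hk,
      QuotientGroup.mk_one]⟩

end CfsgLib.GagolaChar
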