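import Cfsg.Agent.GagolaChar.QuaternionPlane57
import Cfsg.Agent.Constrained.Fitting
import Cfsg.Agent.S5997
import Cfsg.Agent.S4189
import Cfsg.Agent.TwoGroup.Structure
import Mathlib.GroupTheory.SchurZassenhaus

/-!
# Solvable transitive linear groups with prime-power stabilisers
-/

set_option autoImplicit false
set_option maxHeartbeats 800000

namespace CfsgLib.GagolaChar.Trans57

open Cfsg CfsgLib.TwoGroup
open scoped commutatorElement

universe u

variable {X : Type u} [Group X] [Finite X] {p : ℕ} [Fact p.Prime]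
  {V : Type*} [AddCommGroup V] [Module (ZMod p) V] [Finite V] [Nontrivial V]
  (ρ : Representation (ZMod p) X V)

theorem rep_mul' (a b : X) (v : V) : ρ (a * b) v = ρ a (ρ b v) := by
  rw [map_mul, Module.End.mul_apply]

/-- The `p`-core is trivial. -/
theorem pCore_eq_bot (hinj : ∀ x : X, (∀ v : V, ρ x v = v) → x = 1)
    (ht : ∀ v w : V, v ≠ 0 → w ≠ 0 → ∃ x : X, ρ x v = w) : pCore p X = ⊥ := by
  classical
  set P := pCore p X with hP
  letI : MulAction P V :=
    { smul := fun x v => ρ (x : X) v
      one_smul := fun v => by show ρ ((1 : P) : X) v = v; simp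
      mul_smul := fun a b v => rep_mul' ρ (a : X) (b : X) v }
  have hpV : p ∣ Nat.card V := by
    obtain ⟨v, hv⟩ := exists_ne (0 : V)
    have : Function.Injective fun c : ZMod p => c • v := fun c d h =>
      sub_eq_zero.1 ((smul_eq_zero.1 (show (c - d) • v = 0 by
        rw [sub_smul]; exact sub_eq_zero.2 h)).resolve_right hv)
    let f : ZMod p →+ V := AddMonoidHom.mk' (fun c => c • v) fun a b => add_smul a b v
    have h := AddSubgroup.card_dvd_of_injective f this
    rwa [Nat.card_zmod] at h
  obtain ⟨v, hvfix, hv⟩ := (Constrained.isPGroup_pCore (G := X) (p := p)).exists_fixed_point_of_prime_dvd_card_of_fixed_point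
    V hpV (a := (0 : V)) (fun x => map_zero (ρ (x : X)))
  rw [eq_bot_iff]
  intro x hx
  refine Subgroup.mem_bot.2 (hinj x fun w => ?_)
  by_cases hw : w = 0
  · rw [hw, map_zero]
  obtain ⟨h, hh⟩ := ht v w (Ne.symm hv) hw
  have hc : h⁻¹ * x * h ∈ P := by
    simpa using Subgroup.Normal.conj_mem (inferInstance : P.Normal) x hx h⁻¹
  have hfix : ρ (h⁻¹ * x * h) v = v := hvfix ⟨_, hc⟩
  calc ρ x w = ρ (h * (h⁻¹ * x * h)) v := by rw [← hh, ← rep_mul']; congr 2; group
    _ = w := by rw [rep_mul', hfix, hh]

/-- The conjugation action on a normal subgroup kills a commutator when the target is abelian. -/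
theorem conjNormal_eq_one {N : Subgroup X} [N.Normal] (hc : IsCyclic N) {t : X}
    (ht : t ∈ commutator X) : (MulAut.conjNormal t : MulAut N) = 1 := by
  haveI := hc
  have h : commutator X ≤ (MulAut.conjNormal : X →* MulAut N).ker := by
    rw [commutator_def, Subgroup.commutator_le]
    intro a _ b _
    rw [MonoidHom.mem_ker, map_commutatorElement, commutatorElement_eq_one_iff_mul_comm]
    exact (IsCyclic.mulAutMulEquiv N).injective (by rw [map_mul, map_mul, mul_comm])
  exact h ht

theorem mem_centralizer_of_conjNormal {N : Subgroup X} [N.Normal] {t : X}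
    (h : (MulAut.conjNormal t : MulAut N) = 1) : N ≤ Subgroup.centralizer ({t} : Set X) := by
  intro n hn
  rw [Subgroup.mem_centralizer_singleton_iff]
  have := congrArg (fun σ : MulAut N => ((σ ⟨n, hn⟩ : N) : X)) h
  simp only [MulAut.conjNormal_apply, MulAut.one_apply] at this
  exact (mul_inv_eq_iff_eq_mul.1 this).symm

/-- In a solvable group transitive on non-zero vectors with `p`-group stabilisers the derived
group has order prime to `p`. -/
theorem not_dvd_card_commutator [Group.IsSolvable X]
    (hinj : ∀ x : X, (∀ v : V, ρ x v = v) → x = 1)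
    (ht : ∀ v w : V, v ≠ 0 → w ≠ 0 → ∃ x : X, ρ x v = w)
    (hs : ∀ v : V, v ≠ 0 → ∀ x : X, ρ x v = v → ∃ k : ℕ, x ^ p ^ k = 1) :
    ¬ p ∣ Nat.card (commutator X) := by
  classical
  intro hdvd
  have hp : p.Prime := Fact.out
  obtain ⟨t, htord⟩ := exists_prime_orderOf_dvd_card' p hdvd
  have htC : (t : X) ∈ commutator X := t.2
  have hto : orderOf (t : X) = p := by rw [Subgroup.orderOf_coe, htord]
  have hP := pCore_eq_bot ρ hinj ht
  have hcent : ∀ q : ℕ, q.Prime → pCore q X ≤ Subgroup.centralizer ({(t : X)} : Set X) := by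
    intro q hq
    haveI : Fact q.Prime := ⟨hq⟩
    by_cases hqp : q = p
    · subst hqp; rw [hP]; exact bot_le
    set Q := pCore q X
    have hQ : IsPGroup q Q := Constrained.isPGroup_pCore
    have hfix : ∀ a : Q, a ≠ 1 → ∀ v : V, ρ (a : X) v = v → v = 0 := by
      intro a ha v hv
      by_contra hv0
      obtain ⟨k, hk⟩ := hs v hv0 a hv
      obtain ⟨l, hl⟩ := hQ a
      have h1 := orderOf_dvd_of_pow_eq_one hk
      have h2 := orderOf_dvd_of_pow_eq_one (show (a : X) ^ q ^ l = 1 from congrArg Subtype.val hl)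
      have hco : (p ^ k).Coprime (q ^ l) :=
        Nat.Coprime.pow k l ((Nat.coprime_primes hp hq).2 (Ne.symm hqp))
      exact ha (Subtype.ext (orderOf_eq_one_iff.1 (Nat.eq_one_of_dvd_coprimes hco h1 h2)))
    have hfix' : ∀ a : Q, a ≠ 1 → ∀ v : V, (ρ.comp Q.subtype) a v = v → v = 0 := hfix
    by_cases hcyc : IsCyclic Q
    · exact mem_centralizer_of_conjNormal (conjNormal_eq_one hcyc htC)
    have hq2 : q = 2 := by
      by_contra hq2
      have h := Frobenius.Linear.isCyclic_odd_pSubgroup (ρ := ρ.comp Q.subtype) hfix' hq2 ⊤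
        (hQ.to_subgroup ⊤)
      exact hcyc (isCyclic_of_surjective Subgroup.topEquiv.toMonoidHom Subgroup.topEquiv.surjective)
    subst hq2
    obtain ⟨n, hn, hQn, ⟨F⟩⟩ := (cyclic_or_quaternion_frame hQ
      (Frobenius.Linear.atMostOneInvolution (ρ := ρ.comp Q.subtype) hfix')).resolve_left hcyc
    set φ : MulAut Q := MulAut.conjNormal (t : X) with hφ
    have hφp : φ ^ p = 1 := by rw [hφ, ← map_pow, ← hto, pow_orderOf_eq_one, map_one]
    suffices φ = 1 from mem_centralizer_of_conjNormal this
    have hnc : ¬ IsMulCommutative Q := by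
      intro hc
      refine hcyc ?_
      exact isCyclic_of_comm_atMostOneInvolution hQ (fun a b => mul_comm' a b)
        (Frobenius.Linear.atMostOneInvolution (ρ := ρ.comp Q.subtype) hfix')
    by_cases hA : IsPGroup 2 (MulAut Q)
    · obtain ⟨l, hl⟩ := hA φ
      exact orderOf_eq_one_iff.1 (Nat.eq_one_of_dvd_coprimes
        (Nat.Coprime.pow_right l ((Nat.coprime_primes hp Nat.prime_two).2 (Ne.symm hqp)))
        (orderOf_dvd_of_pow_eq_one hφp) (orderOf_dvd_of_pow_eq_one hl))
    obtain ⟨e⟩ := Cfsg.Agent.S4189.quaternion_of_aut hQ hnc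
      (F.index_commutator_of_maxType (by omega) (maxType_neg_one n)) hA
    obtain rfl : n = 2 := by
      have h8 := Nat.card_congr e.toEquiv
      rw [hQn, Nat.card_eq_fintype_card, QuaternionGroup.card, show 4 * 2 = 2 ^ 3 by norm_num] at h8
      have := Nat.pow_right_injective le_rfl h8
      omega
    by_cases hp3 : p = 3
    · subst hp3
      exfalso
      have hidx := index_le_three ρ Q F hfix hinj ht hs
      have hle : commutator X ≤ Q := by
        haveI : IsCyclic (X ⧸ Q) := by
          rcases hidx with h | h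
          · haveI : Subsingleton (X ⧸ Q) := (Nat.card_eq_one_iff_unique.1 h).1
            exact isCyclic_of_subsingleton
          · exact isCyclic_of_prime_card (p := 3) h
        exact Subgroup.Normal.quotient_commutative_iff_commutator_le.1 inferInstance
      have h8 : orderOf (t : X) ∣ 8 := by
        have := Subgroup.orderOf_dvd_natCard _ (hle htC)
        rwa [hQn] at this
      rw [hto] at h8
      norm_num at h8
    · have h12 : φ ^ 12 = 1 := by
        have h := Cfsg.Agent.S5997.mulAut_quat_pow ((MulAut.congr e) φ)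
        rwa [← map_pow, MulEquiv.map_eq_one_iff] at h
      have hco : p.Coprime 12 := by
        rw [hp.coprime_iff_not_dvd]
        intro hd
        rcases (Nat.Prime.dvd_mul hp).1 (show p ∣ 3 * 2 ^ 2 from hd) with h | h
        · exact hp3 ((Nat.prime_dvd_prime_iff_eq hp Nat.prime_three).1 h)
        · exact hqp ((Nat.prime_dvd_prime_iff_eq hp Nat.prime_two).1 (hp.dvd_of_dvd_pow h)).symm
      exact orderOf_eq_one_iff.1 (Nat.eq_one_of_dvd_coprimes hco
        (orderOf_dvd_of_pow_eq_one hφp) (orderOf_dvd_of_pow_eq_one h12))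
  have hF : (fittingSubgroup X) ≤ Subgroup.centralizer ({(t : X)} : Set X) := by
    rw [Constrained.fitting_eq_iSup_pCore]
    exact iSup₂_le hcent
  have htF : (t : X) ∈ fittingSubgroup X := by
    refine Constrained.centralizer_fitting_le (Subgroup.mem_centralizer_iff.2 fun f hf => ?_)
    exact Subgroup.mem_centralizer_singleton_iff.1 (hF hf)
  haveI := Constrained.isNilpotent_fitting (G := X)
  have htp : IsPGroup p (Subgroup.zpowers (⟨t, htF⟩ : fittingSubgroup X)) :=
    IsPGroup.of_card (n := 1) (by rw [Nat.card_zpowers, Subgroup.orderOf_mk, hto, pow_one])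
  obtain ⟨S, hS⟩ := htp.exists_le_sylow
  have hmem : (t : X) ∈ pCore p X :=
    Constrained.map_sylow_le_pCore inferInstance inferInstance S
      ⟨_, hS (Subgroup.mem_zpowers _), rfl⟩
  rw [hP, Subgroup.mem_bot] at hmem
  rw [hmem, orderOf_one] at hto
  exact hp.ne_one hto.symm

omit [Finite V] in
/-- A derived group of order prime to `p` gives a normal `p`-complement and abelian Sylows. -/
theorem complement_of_commutator (X : Type u) [Group X] [Finite X] (p : ℕ) [Fact p.Prime]
    (h : ¬ p ∣ Nat.card (commutator X)) :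
    HasNormalPComplement p X ∧ ∀ Q : Sylow p X, IsMulCommutative (Q : Subgroup X) := by
  classical
  have hdis : ∀ Q : Sylow p X, ∀ x ∈ (Q : Subgroup X), x ∈ commutator X → x = 1 := by
    intro Q x hx hxC
    obtain ⟨k, hk⟩ := Q.isPGroup' ⟨x, hx⟩
    have h1 := orderOf_dvd_of_pow_eq_one (show x ^ p ^ k = 1 from congrArg Subtype.val hk)
    exact orderOf_eq_one_iff.1 (Nat.eq_one_of_dvd_coprimes
      (Nat.Coprime.pow_left k (((Fact.out : p.Prime).coprime_iff_not_dvd).2 h)) h1
      (Subgroup.orderOf_dvd_natCard _ hxC))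
  have hab : ∀ Q : Sylow p X, IsMulCommutative (Q : Subgroup X) := by
    refine fun Q => ⟨⟨fun a b => Subtype.ext ?_⟩⟩
    have h2 := hdis Q _ ((⁅a, b⁆ : (Q : Subgroup X))).2 (by
      exact Subgroup.commutator_mem_commutator (Subgroup.mem_top (a : X))
        (Subgroup.mem_top (b : X)))
    exact commutatorElement_eq_one_iff_mul_comm.1 h2
  refine ⟨?_, hab⟩
  -- the preimage of the `p'`-part of the abelianisation
  let P : Sylow p X := default
  let π : X →* Abelianization X := Abelianization.of
  let S : Sylow p (Abelianization X) := default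
  have hSn : ((S : Subgroup (Abelianization X))).Normal := inferInstance
  obtain ⟨K, hK⟩ := Subgroup.exists_right_complement'_of_coprime
    (N := (S : Subgroup (Abelianization X))) S.card_coprime_index
  have hNn : (K.comap π).Normal := inferInstance
  refine ⟨P, K.comap π, hNn, ?_⟩
  have hKp : ¬ p ∣ Nat.card K := by
    rw [← hK.symm.index_eq_card]
    exact S.not_dvd_index
  have hNidx : (K.comap π).index = p ^ (Nat.card (Abelianization X)).factorization p := by
    rw [Subgroup.index_comap_of_surjective _ Quotient.mk''_surjective]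
    have h1 := hK.index_eq_card
    rw [h1, S.card_eq_multiplicity]
  refine Subgroup.isComplement'_of_disjoint_and_mul_eq_univ ?_ ?_
  · rw [Subgroup.disjoint_def]
    intro x hx hxP
    refine hdis P x hxP ?_
    obtain ⟨k, hk⟩ := P.isPGroup' ⟨x, hxP⟩
    have h1 := orderOf_dvd_of_pow_eq_one (show x ^ p ^ k = 1 from congrArg Subtype.val hk)
    have h2 : orderOf (π x) = 1 := Nat.eq_one_of_dvd_coprimes
      (Nat.Coprime.pow_left k (((Fact.out : p.Prime).coprime_iff_not_dvd).2 hKp))
      ((orderOf_map_dvd π x).trans h1) (Subgroup.orderOf_dvd_natCard _ hx)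
    rw [orderOf_eq_one_iff] at h2
    exact (QuotientGroup.eq_one_iff x).1 h2
  · have hsup : (K.comap π) ⊔ (P : Subgroup X) = ⊤ := by
      refine Subgroup.index_eq_one.1 (Nat.eq_one_of_dvd_coprimes ?_
        (Subgroup.index_dvd_of_le le_sup_left) (Subgroup.index_dvd_of_le le_sup_right))
      rw [hNidx]
      exact Nat.Coprime.pow_left _ (((Fact.out : p.Prime).coprime_iff_not_dvd).2 P.not_dvd_index)
    rw [← Subgroup.normal_mul, hsup, Subgroup.coe_top]

end CfsgLib.GagolaChar.Trans57
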